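import Groth.Agent.MilnorK.K464.DRing
import Mathlib.Algebra.Polynomial.Lifts

/-!
# Generators of the ideals `O_P(-n)` on the semilocal rings of `P`

`exists_gen`: for every `i` there are `f ∈ Y.L`, `v ∈ k` with `J m n i = f ^ n B_i` for all `n`, `f (1 + v s) = 1`, and
all `(x_t / x_0) f` are integral at `i`.
-/

set_option autoImplicit false
set_option linter.unusedSectionVars false
set_option linter.style.haveILetI false

universe u

noncomputable section

namespace K389.Gen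

open K30 K464.DRing

variable {p : ℕ} [hp : Fact p.Prime] {X0 : K58.Kum.{u} p} {b : X0.k} (m : Mdl X0 b)

/-- The constants of `k` in `Y.L`. -/
def ck (w : X0.k) : m.Y.L := algebraMap m.Y.k m.Y.L (m.f.φ w)

theorem ck_mem (w : X0.k) (y : m.S'.I) : ck m w ∈ m.S'.V y :=
  (m.F.mem y _).1 (m.S.base (m.F.f y) w)

/-- A primitive polynomial which vanishes at `s`. -/
theorem exists_poly (V : ValuationSubring m.Y.k) : ∃ (Q : Polynomial V) (j : ℕ), Q.coeff j = 1 ∧
    ∃ c : m.Y.k, Q.map (algebraMap V m.Y.k) = Polynomial.C c * minpoly m.Y.k m.s := by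
  classical
  let q := minpoly m.Y.k m.s
  have hq : q ≠ 0 := minpoly.ne_zero (Algebra.IsIntegral.isIntegral m.s)
  obtain ⟨j, hj, hmax⟩ := q.support.exists_max_image (fun j => V.valuation (q.coeff j))
    (Polynomial.support_nonempty.2 hq)
  have hj0 : q.coeff j ≠ 0 := Polynomial.mem_support_iff.1 hj
  have hV : ∀ l, (q.coeff j)⁻¹ * q.coeff l ∈ V := by
    intro l
    by_cases hl : q.coeff l = 0
    · rw [hl, mul_zero]; exact zero_mem V
    · have h1 := hmax l (Polynomial.mem_support_iff.2 hl)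
      rw [← V.valuation_le_one_iff, map_mul, map_inv₀]
      have h2 : V.valuation (q.coeff j) ≠ 0 := (Valuation.ne_zero_iff _).2 hj0
      exact (inv_mul_le_one₀ (zero_lt_iff.2 h2)).2 h1
  have hl : Polynomial.C (q.coeff j)⁻¹ * q ∈ Polynomial.lifts (algebraMap V m.Y.k) := by
    rw [Polynomial.lifts_iff_coeff_lifts]
    intro l
    rw [Polynomial.coeff_C_mul]
    exact ⟨⟨_, hV l⟩, rfl⟩
  obtain ⟨Q, hQ⟩ := (Polynomial.mem_lifts _).1 hl
  refine ⟨Q, j, ?_, _, hQ⟩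
  have h1 : algebraMap V m.Y.k (Q.coeff j) = 1 := by
    rw [← Polynomial.coeff_map, hQ, Polynomial.coeff_C_mul, inv_mul_cancel₀ hj0]
  exact Subtype.ext h1

/-- A constant `w` such that `s - w` is a unit at all the places over `i` where `s` is integral. -/
theorem exists_good [Infinite X0.k] (i : m.S.I) : ∃ w : X0.k, w ≠ 0 ∧ ∀ y, m.F.f y = i → m.s ∈ m.S'.V y →
    (m.s - ck m w)⁻¹ ∈ m.S'.V y := by
  classical
  obtain ⟨Q, j, hj, c, hQ⟩ := exists_poly m (m.S.V i)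
  let G := Q.map (IsLocalRing.residue (m.S.V i))
  have hG : G ≠ 0 := by
    intro h
    have h1 : G.coeff j = 1 := by rw [Polynomial.coeff_map, hj, map_one]
    rw [h, Polynomial.coeff_zero] at h1
    exact zero_ne_one h1
  obtain ⟨w, hw⟩ := Infinite.exists_notMem_finset
    (insert 0 (G.roots.toFinset.preimage (m.S.cst i) (m.S.cst i).injective.injOn))
  rw [Finset.mem_insert, Finset.mem_preimage, Multiset.mem_toFinset, Polynomial.mem_roots hG, not_or,
    Polynomial.IsRoot.def] at hw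
  refine ⟨w, hw.1, ?_⟩
  have hu : IsUnit (Q.eval (⟨algebraMap X0.k m.Y.k w, m.S.base i w⟩ : m.S.V i)) := by
    rw [← IsLocalRing.residue_ne_zero_iff_isUnit]
    intro h
    apply hw.2
    rw [← h, ← Polynomial.eval₂_at_apply, Polynomial.eval_map]
    rfl
  rintro y rfl hs
  have h1 : (Q.map (m.F.ringHom y)).eval (⟨m.s, hs⟩ : m.S'.V y) = 0 := by
    apply Subtype.ext
    have h2 : algebraMap (m.S'.V y) m.Y.L ((Q.map (m.F.ringHom y)).eval (⟨m.s, hs⟩ : m.S'.V y)) =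
        Polynomial.aeval m.s (Q.map (algebraMap (m.S.V (m.F.f y)) m.Y.k)) := by
      rw [Polynomial.eval_map, Polynomial.hom_eval₂, Polynomial.aeval_map_algebraMap, Polynomial.aeval_def]
      rfl
    change algebraMap (m.S'.V y) m.Y.L _ = 0
    rw [h2, hQ, map_mul, minpoly.aeval, mul_zero]
  have h3 := Polynomial.sub_dvd_eval_sub (⟨m.s, hs⟩ : m.S'.V y) ⟨ck m w, ck_mem m w y⟩
    (Q.map (m.F.ringHom y))
  have h4 : (Q.map (m.F.ringHom y)).eval (⟨ck m w, ck_mem m w y⟩ : m.S'.V y) =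
      m.F.ringHom y (Q.eval (⟨algebraMap X0.k m.Y.k w, m.S.base _ w⟩ : m.S.V (m.F.f y))) := by
    rw [← Polynomial.eval₂_at_apply, Polynomial.eval_map]
    rfl
  rw [h1, h4, zero_sub, dvd_neg] at h3
  obtain ⟨t, ht⟩ := (isUnit_of_dvd_unit h3 (hu.map (m.F.ringHom y))).exists_right_inv
  have h5 : (m.s - ck m w) * (t : m.Y.L) = 1 := congrArg Subtype.val ht
  rw [inv_eq_of_mul_eq_one_right h5]
  exact t.2

theorem f_y₁ : m.F.f m.y₁ = m.F.f m.y₀ := by
  obtain ⟨y', h1, h2⟩ := exists_comap m m.y₁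
  have h3 : y' = m.y₀ := (comap_eq_y₀_iff m h2).2 rfl
  rw [← h1, h3]

theorem mem_of_mem_J {n : ℕ} {i : m.S.I} {a : m.Y.L} (ha : a ∈ J m n i) (y : m.S'.I) (hy : m.F.f y = i) :
    a ∈ m.S'.V y := by
  by_cases h : y = m.y₀
  · subst h
    have h1 := (ha _ hy).2 rfl
    obtain ⟨h2, -⟩ := m.s_y₀
    have h3 : a = a * m.s ^ n * (m.s⁻¹) ^ n := by
      rw [mul_assoc, ← mul_pow, mul_inv_cancel₀ (s_ne_zero m), one_pow, mul_one]
    rw [h3]
    exact mul_mem h1 (pow_mem h2 n)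
  · exact (ha y hy).1 h

theorem σ_pow_mem {i : m.S.I} {a : m.Y.L} (ha : ∀ y, m.F.f y = i → a ∈ m.S'.V y) (t : ℕ) (y : m.S'.I)
    (hy : m.F.f y = i) : (m.Y.σ ^ t) a ∈ m.S'.V y := by
  induction t generalizing y with
  | zero => exact ha y hy
  | succ t ih =>
    obtain ⟨y', h1, h2⟩ := exists_comap m y
    rw [pow_succ', AlgEquiv.mul_apply, ← h2]
    exact ih y' (h1.trans hy)

/-- The elements `(x_t / x_0) a`, `a ∈ O(-1)`. -/
theorem sP_mul_mem {i : m.S.I} {a : m.Y.L} (ha : a ∈ J m 1 i) {t : ℕ} (ht : t ≤ p) (y : m.S'.I)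
    (hy : m.F.f y = i) : sP m t * a ∈ m.S'.V y := by
  have h1 : ∀ n : ℕ, (Tend m 1 ^ n) a ∈ J m 1 i := by
    intro n
    induction n with
    | zero => exact ha
    | succ n ih =>
      rw [pow_succ', Module.End.mul_apply]
      exact Tend_mem m ih
  let a' : m.Y.L := algebraMap m.Y.k m.Y.L (m.f.φ b) * (Tend m 1 ^ (p - t)) a
  have h2 : (Tend m 1 ^ t) a' = a := by
    have h3 : (Tend m 1 ^ t) ((Tend m 1 ^ (p - t)) a) = (Tend m 1 ^ p) a := by
      rw [← Module.End.mul_apply, ← pow_add, Nat.add_sub_cancel' ht]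
    change (Tend m 1 ^ t) (algebraMap m.Y.k m.Y.L (m.f.φ b) * _) = a
    rw [← Algebra.smul_def, map_smul, h3, Tend_pow_p, Module.algebraMap_end_apply, smul_smul, pow_one, ← map_mul,
      mul_inv_cancel₀ (b_ne_zero m), map_one, one_smul]
  have h3 : a' ∈ J m 1 i := mul_mem_J m (fun y _ => ck_mem m b y) (h1 _)
  have h4 : sP m t * a = (m.Y.σ ^ t) a' := by
    rw [Tend_pow_apply, pow_one] at h2
    rw [← h2, mul_inv_cancel_left₀ (sP_ne_zero m t)]
  rw [h4]
  exact σ_pow_mem m (fun y hy => mem_of_mem_J m h3 y hy) t y hy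

/-- **Generators of the ideals `O(-n)`.** -/
theorem exists_gen [Infinite X0.k] (i : m.S.I) : ∃ (f : m.Y.L) (v : X0.k), f ≠ 0 ∧
    (∀ n a, a ∈ J m n i ↔ ∀ y, m.F.f y = i → a * (f ^ n)⁻¹ ∈ m.S'.V y) ∧
    f + algebraMap m.Y.k m.Y.L (m.f.φ v) * (m.s * f) = 1 ∧
    ∀ t < p, ∀ y, m.F.f y = i → sP m t * f ∈ m.S'.V y := by
  by_cases hi : m.F.f m.y₀ = i
  · obtain ⟨w, hw0, hw⟩ := exists_good m i
    have hc0 : ck m w ≠ 0 := by
      rw [ck, ne_eq, map_eq_zero, map_eq_zero]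
      exact hw0
    have hcinv : ∀ y, (ck m w)⁻¹ ∈ m.S'.V y := fun y => by
      have := ck_mem m w⁻¹ y
      rwa [ck, map_inv₀, map_inv₀] at this
    -- `s ≠ w`
    have hsw : m.s - ck m w ≠ 0 := by
      intro h
      obtain ⟨h2, hi2⟩ := m.s_y₁
      have h3 : m.s = ck m w := sub_eq_zero.1 h
      apply hi2.1
      refine IsUnit.of_mul_eq_one ⟨(ck m w)⁻¹, hcinv _⟩ (Subtype.ext ?_)
      change m.s * (ck m w)⁻¹ = 1
      rw [h3, mul_inv_cancel₀ hc0]
    obtain ⟨f, hf⟩ : ∃ f : m.Y.L, f = -ck m w * (m.s - ck m w)⁻¹ := ⟨_, rfl⟩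
    have hf0 : f ≠ 0 := by rw [hf]; exact mul_ne_zero (neg_ne_zero.2 hc0) (inv_ne_zero hsw)
    -- `f` is a unit away from `y₀`
    have hfu : ∀ y, m.F.f y = i → y ≠ m.y₀ → f ∈ m.S'.V y ∧ f⁻¹ ∈ m.S'.V y := by
      intro y hy hy0
      have hs : m.s ∈ m.S'.V y := by
        by_cases hy1 : y = m.y₁
        · rw [hy1]; exact m.s_y₁.1
        · exact (m.s_unit y hy0 hy1).1
      refine ⟨by rw [hf]; exact mul_mem (neg_mem (ck_mem m w y)) (hw y hy hs), ?_⟩
      have h1 : f⁻¹ = -(ck m w)⁻¹ * (m.s - ck m w) := by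
        rw [hf, mul_inv, inv_inv, inv_neg]
      rw [h1]
      exact mul_mem (neg_mem (hcinv y)) (sub_mem hs (ck_mem m w y))
    -- `f s` is a unit at `y₀`
    have hfs : f * m.s ∈ m.S'.V m.y₀ ∧ (f * m.s)⁻¹ ∈ m.S'.V m.y₀ := by
      obtain ⟨h2, hi2⟩ := m.s_y₀
      have hs0 := s_ne_zero m
      -- `1 - w s⁻¹` is a unit
      have hu : IsUnit ((1 : m.S'.V m.y₀) - ⟨ck m w, ck_mem m w _⟩ * ⟨m.s⁻¹, h2⟩) := by
        by_contra h
        have h3 : (1 : m.S'.V m.y₀) - ⟨ck m w, ck_mem m w _⟩ * ⟨m.s⁻¹, h2⟩ ∈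
            IsLocalRing.maximalIdeal (m.S'.V m.y₀) := h
        have h4 : (⟨ck m w, ck_mem m w _⟩ * ⟨m.s⁻¹, h2⟩ : m.S'.V m.y₀) ∈
            IsLocalRing.maximalIdeal (m.S'.V m.y₀) := Ideal.mul_mem_left _ _ hi2.1
        have h5 := Ideal.add_mem _ h3 h4
        rw [sub_add_cancel] at h5
        exact (IsLocalRing.maximalIdeal.isMaximal (m.S'.V m.y₀)).ne_top ((Ideal.eq_top_iff_one _).2 h5)
      obtain ⟨t, ht⟩ := hu.exists_right_inv
      have h6 : (1 - ck m w * m.s⁻¹) * (t : m.Y.L) = 1 := congrArg Subtype.val ht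
      have h7 : (f * m.s)⁻¹ = -(ck m w)⁻¹ * (1 - ck m w * m.s⁻¹) := by
        rw [hf]
        field_simp
      have h8 : f * m.s = -ck m w * t := by
        have h9 : (f * m.s) * (f * m.s)⁻¹ = 1 := mul_inv_cancel₀ (mul_ne_zero hf0 hs0)
        rw [h7] at h9
        calc f * m.s = f * m.s * ((1 - ck m w * m.s⁻¹) * (t : m.Y.L)) := by rw [h6, mul_one]
          _ = (f * m.s * (-(ck m w)⁻¹ * (1 - ck m w * m.s⁻¹))) * (-ck m w) * t := by
            have : (-(ck m w)⁻¹) * (-ck m w) = 1 := by rw [neg_mul_neg, inv_mul_cancel₀ hc0]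
            calc f * m.s * ((1 - ck m w * m.s⁻¹) * (t : m.Y.L))
                = f * m.s * (1 - ck m w * m.s⁻¹) * (t : m.Y.L) * 1 := by ring
              _ = f * m.s * (1 - ck m w * m.s⁻¹) * (t : m.Y.L) * ((-(ck m w)⁻¹) * (-ck m w)) := by rw [this]
              _ = _ := by ring
          _ = -ck m w * t := by rw [h9, one_mul]
      constructor
      · rw [h8]
        exact mul_mem (neg_mem (ck_mem m w _)) t.2
      · rw [h7]
        exact mul_mem (neg_mem (hcinv _)) (sub_mem (one_mem _) (mul_mem (ck_mem m w _) h2))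
    have key : ∀ n a, a ∈ J m n i ↔ ∀ y, m.F.f y = i → a * (f ^ n)⁻¹ ∈ m.S'.V y := by
      intro n a
      constructor
      · intro ha y hy
        by_cases h : y = m.y₀
        · subst h
          have h1 := (ha _ hy).2 rfl
          have h2 : a * (f ^ n)⁻¹ = a * m.s ^ n * ((f * m.s)⁻¹) ^ n := by
            rw [inv_pow, mul_pow, mul_inv]
            have := pow_ne_zero n (s_ne_zero m)
            field_simp
          rw [h2]
          exact mul_mem h1 (pow_mem hfs.2 n)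
        · rw [← inv_pow]
          exact mul_mem ((ha y hy).1 h) (pow_mem (hfu y hy h).2 n)
      · intro ha y hy
        refine ⟨fun h => ?_, fun h => ?_⟩
        · have h1 := mul_mem (ha y hy) (pow_mem (hfu y hy h).1 n)
          rwa [inv_mul_cancel_right₀ (pow_ne_zero n hf0)] at h1
        · subst h
          have h1 := mul_mem (ha _ hy) (pow_mem hfs.1 n)
          rwa [mul_pow, ← mul_assoc, inv_mul_cancel_right₀ (pow_ne_zero n hf0)] at h1
    have hfJ : f ∈ J m 1 i := (key 1 f).2 fun y _ => by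
      rw [pow_one, mul_inv_cancel₀ hf0]
      exact one_mem _
    refine ⟨f, -w⁻¹, hf0, key, ?_, fun t ht y hy => sP_mul_mem m hfJ ht.le y hy⟩
    have h1 : algebraMap m.Y.k m.Y.L (m.f.φ (-w⁻¹)) = -(ck m w)⁻¹ := by
      rw [map_neg, map_neg, map_inv₀, map_inv₀]; rfl
    rw [h1]
    rw [hf]
    field_simp
    ring
  · have hne : ∀ y, m.F.f y = i → y ≠ m.y₀ := by
      rintro y hy rfl
      exact hi hy
    have hJ : ∀ n a, a ∈ J m n i ↔ ∀ y, m.F.f y = i → a ∈ m.S'.V y := fun n a =>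
      ⟨fun ha y hy => (ha y hy).1 (hne y hy), fun ha y hy => ⟨fun _ => ha y hy, fun h => absurd h (hne y hy)⟩⟩
    refine ⟨1, 0, one_ne_zero, fun n a => ?_, ?_, fun t ht y hy => ?_⟩
    · rw [hJ]
      simp
    · simp
    · exact sP_mul_mem m ((hJ 1 1).2 fun y _ => one_mem _) ht.le y hy

end K389.Gen
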