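import Groth.Agent.MilnorK.K389.Loc

/-!
# Hilbert 90 for `R[r]` over a semilocal ring `R`

`R` a subring of a field `F` whose (fractional) ideals are principal, `A = F[r]`, `r ^ p = α` a unit of `R`,
`σ r = ζ r`; `BB = R[r] ⊆ A`.  If `g` is a unit of `A` and `σ g = v g` for a unit `v` of `BB`, then `g = a w` with
`a ∈ F` and `w` a unit of `BB`.
-/

set_option autoImplicit false
set_option linter.unusedSectionVars false
set_option linter.style.haveILetI false

universe u v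

noncomputable section

namespace K389.Inv

open Module

variable {F : Type u} [Field F] {A : Type v} [CommRing A] [Algebra F A]

section BB

variable (R : Subring F) {p : ℕ} [NeZero p] (B : Basis (Fin p) F A) (r : A)
  (hB : ∀ l, B l = r ^ (l : ℕ)) (α : F) (hr : r ^ p = algebraMap F A α) (hα : α ∈ R)

theorem smul_BB {c : F} (hc : c ∈ R) {x : A} (hx : ∀ l, B.repr x l ∈ R) (l : Fin p) : B.repr (c • x) l ∈ R := by
  rw [map_smul, Finsupp.smul_apply, smul_eq_mul]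
  exact mul_mem hc (hx l)

theorem add_BB {x y : A} (hx : ∀ l, B.repr x l ∈ R) (hy : ∀ l, B.repr y l ∈ R) (l : Fin p) :
    B.repr (x + y) l ∈ R := by
  rw [map_add, Finsupp.add_apply]
  exact add_mem (hx l) (hy l)

theorem sum_BB {ι : Type*} (s : Finset ι) (f : ι → A) (h : ∀ i ∈ s, ∀ l, B.repr (f i) l ∈ R) (l : Fin p) :
    B.repr (∑ i ∈ s, f i) l ∈ R := by
  rw [map_sum, Finsupp.finsetSum_apply]
  exact sum_mem fun i hi => h i hi l

theorem basis_BB (m l : Fin p) : B.repr (B m) l ∈ R := by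
  rw [Basis.repr_self, Finsupp.single_apply]
  split_ifs
  · exact one_mem R
  · exact zero_mem R

include hB hr hα

theorem pow_BB (n : ℕ) (l : Fin p) : B.repr (r ^ n) l ∈ R := by
  rw [Loc.pow_eq B r hB α hr n]
  exact smul_BB R B (pow_mem hα _) (basis_BB R B _) l

theorem one_BB (l : Fin p) : B.repr (1 : A) l ∈ R := by
  have := pow_BB R B r hB α hr hα 0 l
  rwa [pow_zero] at this

theorem algebraMap_BB {c : F} (hc : c ∈ R) (l : Fin p) : B.repr (algebraMap F A c) l ∈ R := by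
  rw [Algebra.algebraMap_eq_smul_one]
  exact smul_BB R B hc (one_BB R B r hB α hr hα) l

theorem mul_BB {x y : A} (hx : ∀ l, B.repr x l ∈ R) (hy : ∀ l, B.repr y l ∈ R) (l : Fin p) :
    B.repr (x * y) l ∈ R := by
  rw [← B.sum_repr x, ← B.sum_repr y, Finset.sum_mul_sum]
  refine sum_BB R B _ _ (fun m _ => sum_BB R B _ _ fun n _ => ?_) l
  rw [smul_mul_smul_comm, hB, hB, ← pow_add]
  exact smul_BB R B (mul_mem (hx m) (hy n)) (pow_BB R B r hB α hr hα _)

/-- The subring `R[r]`. -/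
def BB : Subring A where
  carrier := {x | ∀ l, B.repr x l ∈ R}
  mul_mem' := mul_BB R B r hB α hr hα
  one_mem' := one_BB R B r hB α hr hα
  add_mem' := add_BB R B
  zero_mem' l := by rw [map_zero]; exact zero_mem R
  neg_mem' {x} hx l := by
    rw [map_neg, Finsupp.neg_apply]
    exact neg_mem (hx l)

theorem mem_BB {x : A} : x ∈ BB R B r hB α hr hα ↔ ∀ l, B.repr x l ∈ R := Iff.rfl

/-- `R[r] ∩ F = R`. -/
theorem algebraMap_mem_BB_iff {c : F} : algebraMap F A c ∈ BB R B r hB α hr hα ↔ c ∈ R := by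
  refine ⟨fun h => ?_, fun h => algebraMap_BB R B r hB α hr hα h⟩
  have h1 := h (Fin.ofNat p 0)
  have h2 : algebraMap F A c = c • B (Fin.ofNat p 0) := by
    have h3 := Loc.pow_eq B r hB α hr 0
    rw [pow_zero, Nat.zero_div, pow_zero, one_smul] at h3
    rw [← h3, Algebra.algebraMap_eq_smul_one]
  rwa [h2, map_smul, Finsupp.smul_apply, Basis.repr_self, Finsupp.single_eq_same, smul_eq_mul, mul_one] at h1

end BB

section Sigma

variable {p : ℕ} [NeZero p] (B : Basis (Fin p) F A) (r : A) (hB : ∀ l, B l = r ^ (l : ℕ)) (ζ : F)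
  (σ : A →+* A) (hσF : ∀ x, σ (algebraMap F A x) = algebraMap F A x) (hσr : σ r = algebraMap F A ζ * r)

include hB hσF hσr

theorem σ_pow (m n : ℕ) : (σ ^ n) (r ^ m) = algebraMap F A (ζ ^ (n * m)) * r ^ m := by
  induction n with
  | zero => rw [pow_zero, zero_mul, pow_zero, map_one, one_mul]; rfl
  | succ n ih =>
    have h : (σ ^ (n + 1)) (r ^ m) = σ ((σ ^ n) (r ^ m)) := by
      rw [pow_succ']; rfl
    rw [h, ih, map_mul, hσF, map_pow σ, hσr, mul_pow, ← mul_assoc, ← map_pow (algebraMap F A) ζ m, ← map_mul,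
      ← pow_add, show n * m + m = (n + 1) * m by ring]

theorem σn_algebraMap (n : ℕ) (x : F) : (σ ^ n) (algebraMap F A x) = algebraMap F A x := by
  induction n with
  | zero => rw [pow_zero]; rfl
  | succ n ih =>
    have h : (σ ^ (n + 1)) (algebraMap F A x) = σ ((σ ^ n) (algebraMap F A x)) := by
      rw [pow_succ']; rfl
    rw [h, ih, hσF]

theorem σn_smul (n : ℕ) (c : F) (x : A) : (σ ^ n) (c • x) = c • (σ ^ n) x := by
  rw [Algebra.smul_def, Algebra.smul_def, map_mul, σn_algebraMap B r hB ζ σ hσF hσr]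

theorem repr_σ (n : ℕ) (x : A) (l : Fin p) : B.repr ((σ ^ n) x) l = ζ ^ (n * l) * B.repr x l := by
  have h : (σ ^ n) x = ∑ m : Fin p, (ζ ^ (n * (m : ℕ)) * B.repr x m) • B m := by
    conv_lhs => rw [← B.sum_repr x]
    rw [map_sum]
    refine Finset.sum_congr rfl fun m _ => ?_
    rw [σn_smul B r hB ζ σ hσF hσr, hB, σ_pow B r hB ζ σ hσF hσr, ← Algebra.smul_def, smul_smul, mul_comm]
  rw [h, Basis.repr_sum_self]

variable (hζ : IsPrimitiveRoot ζ p)
include hζ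

/-- The homogeneous components. -/
theorem component (x : A) (l : Fin p) :
    ∑ n ∈ Finset.range p, (ζ⁻¹) ^ (n * l) • (σ ^ n) x = ((p : F) * B.repr x l) • B l := by
  apply B.repr.injective
  ext m
  rw [map_sum, Finsupp.finsetSum_apply, map_smul, Finsupp.smul_apply, Basis.repr_self, Finsupp.single_apply]
  have h1 : ∀ n ∈ Finset.range p, B.repr ((ζ⁻¹) ^ (n * l) • (σ ^ n) x) m =
      (ζ ^ (m : ℕ) * (ζ⁻¹) ^ (l : ℕ)) ^ n * B.repr x m := by
    intro n _
    rw [map_smul, Finsupp.smul_apply, repr_σ B r hB ζ σ hσF hσr, smul_eq_mul, ← mul_assoc, mul_pow, ← pow_mul,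
      ← pow_mul, mul_comm (n : ℕ) (l : ℕ), mul_comm (n : ℕ) (m : ℕ)]
    ring
  rw [Finset.sum_congr rfl h1, ← Finset.sum_mul]
  have hζ0 : ζ ≠ 0 := hζ.ne_zero (NeZero.ne p)
  by_cases hlm : l = m
  · subst hlm
    rw [if_pos rfl, inv_pow, mul_inv_cancel₀ (pow_ne_zero _ hζ0)]
    simp
  · rw [if_neg hlm, smul_zero]
    have hω : ζ ^ (m : ℕ) * (ζ⁻¹) ^ (l : ℕ) ≠ 1 := by
      intro h
      rw [inv_pow, mul_inv_eq_one₀ (pow_ne_zero _ hζ0)] at h
      exact hlm (Fin.ext (hζ.pow_inj m.2 l.2 h)).symm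
    have hωp : (ζ ^ (m : ℕ) * (ζ⁻¹) ^ (l : ℕ)) ^ p = 1 := by
      rw [mul_pow, ← pow_mul, ← pow_mul, mul_comm (m : ℕ) p, mul_comm (l : ℕ) p, pow_mul, pow_mul, inv_pow,
        hζ.pow_eq_one, inv_one, one_pow, one_pow, one_mul]
    have h2 := mul_neg_geom_sum (ζ ^ (m : ℕ) * (ζ⁻¹) ^ (l : ℕ)) p
    rw [hωp, sub_self, mul_eq_zero, sub_eq_zero] at h2
    rw [h2.resolve_left (Ne.symm hω), zero_mul]

end Sigma

section Main

variable (R : Subring F) {p : ℕ} [NeZero p] (B : Basis (Fin p) F A) (r : A)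
  (hB : ∀ l, B l = r ^ (l : ℕ)) (α : F) (hr : r ^ p = algebraMap F A α) (hα : α ∈ R) (hα' : α⁻¹ ∈ R)
  (hα0 : α ≠ 0) (ζ : F) (hζ : IsPrimitiveRoot ζ p) (hζR : ζ ∈ R) (hp : (p : F) ≠ 0) (hpR : (p : F)⁻¹ ∈ R)
  (σ : A →+* A) (hσF : ∀ x, σ (algebraMap F A x) = algebraMap F A x) (hσr : σ r = algebraMap F A ζ * r)
  (hR : ∀ N : AddSubgroup F, (∀ c x, c ∈ R → x ∈ N → c * x ∈ N) → (∃ x ∈ N, x ≠ 0) →
    (∃ c : F, c ≠ 0 ∧ ∀ x ∈ N, c * x ∈ R) → ∃ a : F, a ≠ 0 ∧ ∀ x, x ∈ N ↔ a⁻¹ * x ∈ R)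

include hα' hα0

/-- `r` is a unit of `R[r]`. -/
theorem exists_inv_r : ∃ r' ∈ BB R B r hB α hr hα, r' * r = 1 := by
  refine ⟨α⁻¹ • r ^ (p - 1), smul_BB R B hα' (pow_BB R B r hB α hr hα _), ?_⟩
  rw [smul_mul_assoc, ← pow_succ, Nat.sub_add_cancel (NeZero.one_le), hr, Algebra.algebraMap_eq_smul_one, smul_smul, inv_mul_cancel₀ hα0, one_smul]

include hζ hζR hp hpR hσF hσr hR

/-- **Hilbert 90.** -/
theorem exists_inv (g v : Aˣ) (hv : (v : A) ∈ BB R B r hB α hr hα) (hg : σ g = v * g) :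
    ∃ a : F, a ≠ 0 ∧ (g⁻¹ : Aˣ) * algebraMap F A a ∈ BB R B r hB α hr hα ∧
      a⁻¹ • (g : A) ∈ BB R B r hB α hr hα := by
  obtain ⟨r', hr', hrr⟩ := exists_inv_r R B r hB α hr hα hα' hα0
  have hζ0 : ζ ≠ 0 := hζ.ne_zero (NeZero.ne p)
  have hζR' : ζ⁻¹ ∈ R := by
    have h1 : ζ⁻¹ = ζ ^ (p - 1) := inv_eq_of_mul_eq_one_right (by
      rw [← pow_succ', Nat.sub_add_cancel NeZero.one_le, hζ.pow_eq_one])
    rw [h1]
    exact pow_mem hζR _
  have hσB : ∀ x, x ∈ BB R B r hB α hr hα → σ x ∈ BB R B r hB α hr hα := by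
    intro x hx l
    have h1 := repr_σ B r hB ζ σ hσF hσr 1 x l
    rw [pow_one, one_mul] at h1
    rw [h1]
    exact mul_mem (pow_mem hζR _) (hx l)
  -- the ideal generated by `g`
  let M : Set A := {x | (g⁻¹ : Aˣ) * x ∈ BB R B r hB α hr hα}
  have hMσ : ∀ x, x ∈ M → σ x ∈ M := by
    intro x hx
    have h1 : σ x = v * g * σ ((g⁻¹ : Aˣ) * x) := by
      rw [← hg, ← map_mul, Units.mul_inv_cancel_left]
    change (g⁻¹ : Aˣ) * σ x ∈ BB R B r hB α hr hα
    rw [h1, mul_assoc, mul_left_comm, Units.inv_mul_cancel_left]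
    exact mul_mem hv (hσB _ hx)
  have hMσn : ∀ (n : ℕ) x, x ∈ M → (σ ^ n) x ∈ M := by
    intro n x hx
    induction n with
    | zero => exact hx
    | succ n ih =>
      have h : (σ ^ (n + 1)) x = σ ((σ ^ n) x) := by rw [pow_succ']; rfl
      rw [h]
      exact hMσ _ ih
  have hMsmul : ∀ (c : F) x, c ∈ R → x ∈ M → c • x ∈ M := by
    intro c x hc hx
    change (g⁻¹ : Aˣ) * c • x ∈ BB R B r hB α hr hα
    rw [mul_smul_comm]
    exact smul_BB R B hc hx
  have hMsum : ∀ (s : Finset ℕ) (f : ℕ → A), (∀ i ∈ s, f i ∈ M) → ∑ i ∈ s, f i ∈ M := by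
    intro s f h
    change (g⁻¹ : Aˣ) * ∑ i ∈ s, f i ∈ BB R B r hB α hr hα
    rw [Finset.mul_sum]
    exact sum_BB R B _ _ h
  have hMr : ∀ x, r * x ∈ M → x ∈ M := by
    intro x hx
    change (g⁻¹ : Aˣ) * x ∈ BB R B r hB α hr hα
    have h1 : ((g⁻¹ : Aˣ) : A) * x = r' * ((g⁻¹ : Aˣ) * (r * x)) := by
      calc ((g⁻¹ : Aˣ) : A) * x = (r' * r) * ((g⁻¹ : Aˣ) * x) := by rw [hrr, one_mul]
        _ = r' * ((g⁻¹ : Aˣ) * (r * x)) := by ring
    rw [h1]
    exact mul_mem hr' hx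
  have hMrn : ∀ (n : ℕ) x, r ^ n * x ∈ M → x ∈ M := by
    intro n
    induction n with
    | zero => intro x hx; rwa [pow_zero, one_mul] at hx
    | succ n ih =>
      intro x hx
      rw [pow_succ, mul_assoc] at hx
      exact hMr _ (ih _ hx)
  -- components
  have hcomp : ∀ x, x ∈ M → ∀ l, algebraMap F A (B.repr x l) ∈ M := by
    intro x hx l
    have h1 := component B r hB ζ σ hσF hσr hζ x l
    have h2 : ((p : F) * B.repr x l) • B l ∈ M := by
      rw [← h1]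
      exact hMsum _ _ fun n _ => hMsmul _ _ (pow_mem hζR' _) (hMσn n x hx)
    have h3 := hMsmul _ _ hpR h2
    rw [smul_smul, inv_mul_cancel_left₀ hp, hB, Algebra.smul_def, mul_comm] at h3
    exact hMrn _ _ h3
  let N : AddSubgroup F :=
    { carrier := {x | algebraMap F A x ∈ M}
      zero_mem' := by
        change (g⁻¹ : Aˣ) * algebraMap F A 0 ∈ BB R B r hB α hr hα
        rw [map_zero, mul_zero]
        exact zero_mem _
      add_mem' := by
        intro x y hx hy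
        change (g⁻¹ : Aˣ) * algebraMap F A (x + y) ∈ BB R B r hB α hr hα
        rw [map_add, mul_add]
        exact add_mem hx hy
      neg_mem' := by
        intro x hx
        change (g⁻¹ : Aˣ) * algebraMap F A (-x) ∈ BB R B r hB α hr hα
        rw [map_neg, mul_neg]
        exact neg_mem hx }
  haveI : Nontrivial A := B.repr.symm.toEquiv.symm.nontrivial
  have hgM : (g : A) ∈ M := by
    change (g⁻¹ : Aˣ) * (g : A) ∈ BB R B r hB α hr hα
    rw [Units.inv_mul]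
    exact one_mem _
  have hne : ∀ x : A, x ≠ 0 → ∃ l, B.repr x l ≠ 0 := by
    intro x hx
    by_contra h
    push Not at h
    exact hx (B.repr.injective (by rw [map_zero]; ext l; exact h l))
  obtain ⟨a, ha0, ha⟩ := hR N
    (fun c x hc hx => by
      have h1 := hMsmul c _ hc hx
      change algebraMap F A (c * x) ∈ M
      rwa [map_mul, ← Algebra.smul_def])
    (by
      obtain ⟨l, hl⟩ := hne _ g.ne_zero
      exact ⟨_, hcomp _ hgM l, hl⟩)
    (by
      obtain ⟨l, hl⟩ := hne _ (g⁻¹).ne_zero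
      refine ⟨_, hl, fun x hx => ?_⟩
      have h1 : (g⁻¹ : Aˣ) * algebraMap F A x ∈ BB R B r hB α hr hα := hx
      have h2 := h1 l
      rwa [mul_comm, ← Algebra.smul_def, map_smul, Finsupp.smul_apply, smul_eq_mul, mul_comm] at h2)
  refine ⟨a, ha0, ?_, fun l => ?_⟩
  · exact (ha a).2 (by rw [inv_mul_cancel₀ ha0]; exact one_mem R)
  · rw [map_smul, Finsupp.smul_apply, smul_eq_mul]
    exact (ha _).1 (hcomp _ hgM l)

/-- The same for the powers of `g`. -/
theorem exists_inv_pow (g v : Aˣ) (hv : (v : A) ∈ BB R B r hB α hr hα) (hg : σ g = v * g) :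
    ∃ a : F, a ≠ 0 ∧ ∀ (n : ℕ) (x : F), ((g ^ n)⁻¹ : Aˣ) * algebraMap F A x ∈ BB R B r hB α hr hα ↔
      (a ^ n)⁻¹ * x ∈ R := by
  obtain ⟨a, ha0, h1, h2⟩ := exists_inv R B r hB α hr hα hα' hα0 ζ hζ hζR hp hpR σ hσF hσr hR g v hv hg
  refine ⟨a, ha0, fun n x => ?_⟩
  have e1 : ((g⁻¹ : Aˣ) : A) * algebraMap F A a * (a⁻¹ • (g : A)) = 1 := by
    rw [Algebra.smul_def, mul_comm (algebraMap F A a⁻¹) (g : A), mul_assoc, ← mul_assoc (algebraMap F A a),
      mul_comm (algebraMap F A a) (g : A), mul_assoc (g : A), ← map_mul, mul_inv_cancel₀ ha0, map_one, mul_one,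
      Units.inv_mul]
  have e2 : ∀ n : ℕ, ((g ^ n)⁻¹ : Aˣ) * algebraMap F A x =
      (((g⁻¹ : Aˣ) : A) * algebraMap F A a) ^ n * algebraMap F A ((a ^ n)⁻¹ * x) := by
    intro n
    rw [mul_pow, ← Units.val_pow_eq_pow_val, inv_pow, mul_assoc, ← map_pow, ← map_mul,
      mul_inv_cancel_left₀ (pow_ne_zero _ ha0)]
  rw [e2]
  constructor
  · intro h
    have h3 := mul_mem (pow_mem h2 n) h
    rw [← mul_assoc, ← mul_pow, mul_comm (a⁻¹ • (g : A)), e1, one_pow, one_mul] at h3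
    exact (algebraMap_mem_BB_iff R B r hB α hr hα).1 h3
  · intro h
    exact mul_mem (pow_mem h1 n) ((algebraMap_mem_BB_iff R B r hB α hr hα).2 h)

end Main

end K389.Inv
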