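import Groth.Agent.MilnorK.K492.DetAdd
import Mathlib.RingTheory.Localization.Integer

/-!
# Comparison of determinants on lattices with isomorphic quotients

`chi_fib`: lattice families `I ≤ Λ` on `M` and `J ≤ Γ` on `N` which correspond to each other at every `i` under
SOME isomorphism `φ i` (depending on `i`) commuting with the automorphisms: the change of the determinant is the
same.  Only the additivity of the determinant is used.

`chi_pow`: for the lattice families `Λ n = a_i ^ n R_i` in a commutative algebra, `n ↦ χ (Λ n) u` is affine.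
-/

set_option autoImplicit false

universe u

noncomputable section

namespace K389.Step

open K30 K492.DetAdd

variable {k K : Type u} [Field k] [Field K] [Algebra k K] {S : Fam k K}

section Fib

variable {M N : Type u} [AddCommGroup M] [Module K M] [AddCommGroup N] [Module K N]

/-- The unipotent automorphism `(x, y) ↦ (x + φ y, y)`. -/
def uni (φ : N ≃ₗ[K] M) : (M × N) ≃ₗ[K] (M × N) where
  toFun z := (z.1 + φ z.2, z.2)
  invFun z := (z.1 - φ z.2, z.2)
  map_add' z w := by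
    ext
    · change z.1 + w.1 + φ (z.2 + w.2) = z.1 + φ z.2 + (w.1 + φ w.2)
      rw [map_add]; abel
    · rfl
  map_smul' c z := by
    ext
    · change c • z.1 + φ (c • z.2) = c • (z.1 + φ z.2)
      rw [map_smul, smul_add]
    · rfl
  left_inv z := by
    ext
    · change z.1 + φ z.2 - φ z.2 = z.1
      rw [add_sub_cancel_right]
    · rfl
  right_inv z := by
    ext
    · change z.1 - φ z.2 + φ z.2 = z.1
      rw [sub_add_cancel]
    · rfl

theorem uni_symm (φ : N ≃ₗ[K] M) (z : M × N) : (uni φ).symm z = (z.1 - φ z.2, z.2) := rfl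

variable (I : Lat S M) (Γ : Lat S N) (φ : ∀ _ : S.I, N ≃ₗ[K] M)

/-- The extension of `Γ` by `I` twisted by `φ`. -/
def ext : Lat S (M × N) where
  L i :=
    { carrier := {z | z.2 ∈ Γ.L i ∧ z.1 - φ i z.2 ∈ I.L i}
      zero_mem' := by
        refine ⟨zero_mem _, ?_⟩
        rw [Prod.fst_zero, Prod.snd_zero, map_zero, sub_zero]
        exact zero_mem _
      add_mem' := by
        rintro z w ⟨hz, hz'⟩ ⟨hw, hw'⟩
        refine ⟨add_mem hz hw, ?_⟩
        have h : (z + w).1 - φ i (z + w).2 = (z.1 - φ i z.2) + (w.1 - φ i w.2) := by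
          rw [Prod.fst_add, Prod.snd_add, map_add]; abel
        rw [h]
        exact add_mem hz' hw'
      neg_mem' := by
        rintro z ⟨hz, hz'⟩
        refine ⟨neg_mem hz, ?_⟩
        have h : (-z).1 - φ i (-z).2 = -(z.1 - φ i z.2) := by
          rw [Prod.fst_neg, Prod.snd_neg, map_neg]; abel
        rw [h]
        exact neg_mem hz' }
  loc i := by
    obtain ⟨n, e, he⟩ := I.loc i
    obtain ⟨m, f, hf⟩ := Γ.loc i
    refine ⟨n + m, ((e.prod f).map (uni (φ i))).reindex finSumFinEquiv, fun z => ?_⟩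
    have h1 : z ∈ {z : M × N | z.2 ∈ Γ.L i ∧ z.1 - φ i z.2 ∈ I.L i} ↔
        (∀ j, e.repr (z.1 - φ i z.2) j ∈ S.V i) ∧ ∀ j, f.repr z.2 j ∈ S.V i := by
      rw [Set.mem_ofPred_eq, he, hf, and_comm]
    refine h1.trans ?_
    have h2 : ∀ j : Fin n ⊕ Fin m, (((e.prod f).map (uni (φ i))).reindex finSumFinEquiv).repr z
        (finSumFinEquiv j) = (e.prod f).repr (z.1 - φ i z.2, z.2) j := by
      intro j
      rw [Module.Basis.repr_reindex_apply, Equiv.symm_apply_apply, Module.Basis.map_repr]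
      rfl
    constructor
    · rintro ⟨h3, h4⟩ j
      obtain ⟨j, rfl⟩ := finSumFinEquiv.surjective j
      rw [h2]
      rcases j with j | j
      · rw [Module.Basis.prod_repr_inl]; exact h3 j
      · rw [Module.Basis.prod_repr_inr]; exact h4 j
    · intro h3
      refine ⟨fun j => ?_, fun j => ?_⟩
      · have := h3 (finSumFinEquiv (Sum.inl j))
        rwa [h2, Module.Basis.prod_repr_inl] at this
      · have := h3 (finSumFinEquiv (Sum.inr j))
        rwa [h2, Module.Basis.prod_repr_inr] at this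

theorem mem_ext {i : S.I} {z : M × N} : z ∈ (ext I Γ φ).L i ↔ z.2 ∈ Γ.L i ∧ z.1 - φ i z.2 ∈ I.L i := Iff.rfl

variable {I Γ φ}

/-- **Lattices with isomorphic quotients.** -/
theorem chi_fib (D : DetThy.{u}) {Λ I : Lat S M} {Γ J : Lat S N} (g : M ≃ₗ[K] M) (h : N ≃ₗ[K] N)
    (hΛ : Λ.Stab g) (hI : I.Stab g) (hΓ : Γ.Stab h) (hJ : J.Stab h) (φ : ∀ _ : S.I, N ≃ₗ[K] M)
    (hφ : ∀ i y, φ i (h y) = g (φ i y)) (h1 : ∀ i y, φ i y ∈ Λ.L i ↔ y ∈ Γ.L i)
    (h2 : ∀ i y, φ i y ∈ I.L i ↔ y ∈ J.L i) (hle : ∀ i x, x ∈ I.L i → x ∈ Λ.L i) :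
    D.χ S Λ g + D.χ S J h = D.χ S I g + D.χ S Γ h := by
  have s1 : Lat.SES I (ext I Γ φ) Γ (LinearMap.inl K M N) (LinearMap.snd K M N) :=
    { inj := LinearMap.inl_injective
      surj := LinearMap.snd_surjective
      comp := fun _ => rfl
      mem_a := fun i x hx => by
        refine ⟨zero_mem _, ?_⟩
        change x - φ i 0 ∈ I.L i
        rwa [map_zero, sub_zero]
      mem_b := fun i y hy => hy.1
      exK := fun y hy => ⟨y.1, Prod.ext rfl hy.symm⟩
      exL := fun i y hy h0 => by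
        refine ⟨y.1, ?_, Prod.ext rfl h0.symm⟩
        have h3 := hy.2
        have h4 : y.2 = 0 := h0
        rwa [h4, map_zero, sub_zero] at h3
      surjL := fun i z hz => by
        refine ⟨(φ i z, z), ⟨hz, ?_⟩, rfl⟩
        change φ i z - φ i z ∈ I.L i
        rw [sub_self]
        exact zero_mem _ }
  have s2 : Lat.SES J (ext I Γ φ) Λ (LinearMap.inr K M N) (LinearMap.fst K M N) :=
    { inj := LinearMap.inr_injective
      surj := LinearMap.fst_surjective
      comp := fun _ => rfl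
      mem_a := fun i x hx => by
        have h3 : φ i x ∈ I.L i := (h2 i x).2 hx
        refine ⟨(h1 i x).1 (hle i _ h3), ?_⟩
        change 0 - φ i x ∈ I.L i
        rw [zero_sub]
        exact neg_mem h3
      mem_b := fun i y hy => by
        have h3 := add_mem (hle i _ hy.2) ((h1 i y.2).2 hy.1)
        rwa [sub_add_cancel] at h3
      exK := fun y hy => ⟨y.2, Prod.ext hy.symm rfl⟩
      exL := fun i y hy h0 => by
        refine ⟨y.2, ?_, Prod.ext h0.symm rfl⟩
        have h3 := hy.2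
        have h4 : y.1 = 0 := h0
        rw [h4, zero_sub, neg_mem_iff] at h3
        exact (h2 i y.2).1 h3
      surjL := fun i z hz => by
        refine ⟨(z, (φ i).symm z), ⟨(h1 i _).1 ?_, ?_⟩, rfl⟩
        · rwa [LinearEquiv.apply_symm_apply]
        · change z - φ i ((φ i).symm z) ∈ I.L i
          rw [LinearEquiv.apply_symm_apply, sub_self]
          exact zero_mem _ }
  have st : (ext I Γ φ).Stab (g.prodCongr h) := by
    intro i z
    rw [mem_ext, mem_ext]
    refine and_congr (hΓ i z.2) ?_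
    have h3 : (g.prodCongr h z).1 - φ i (g.prodCongr h z).2 = g (z.1 - φ i z.2) := by
      change g z.1 - φ i (h z.2) = _
      rw [hφ, map_sub]
    rw [h3]
    exact hI i _
  have e1 := chi_ses D s1 g (g.prodCongr h) h hI st hΓ
    (fun x => Prod.ext rfl (map_zero h)) (fun _ => rfl)
  have e2 := chi_ses D s2 h (g.prodCongr h) g hJ st hΛ
    (fun x => Prod.ext (map_zero g) rfl) (fun _ => rfl)
  rw [← e1, e2, add_comm]

end Fib

/-! ### Scaling -/

section Scale

variable {M : Type u} [AddCommGroup M] [Module K M]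

/-- The lattices `d_i L_i`. -/
def scale (Λ : Lat S M) (d : S.I → K) (hd : ∀ i, d i ≠ 0) : Lat S M where
  L i := (Λ.L i).comap (DistribSMul.toAddMonoidHom M (d i)⁻¹)
  loc i := by
    obtain ⟨n, e, he⟩ := Λ.loc i
    refine ⟨n, e.map (LinearEquiv.smulOfNeZero K M (d i) (hd i)), fun x => ?_⟩
    refine (he _).trans ?_
    have h : ∀ j, (e.map (LinearEquiv.smulOfNeZero K M (d i) (hd i))).repr x j = e.repr ((d i)⁻¹ • x) j := by
      intro j
      rw [Module.Basis.map_repr]
      rfl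
    exact forall_congr' fun j => by rw [h]; rfl

theorem mem_scale {Λ : Lat S M} {d : S.I → K} {hd : ∀ i, d i ≠ 0} {i : S.I} {x : M} :
    x ∈ (scale Λ d hd).L i ↔ (d i)⁻¹ • x ∈ Λ.L i := Iff.rfl

theorem smul_mem (Λ : Lat S M) {i : S.I} {c : K} (hc : c ∈ S.V i) {x : M} (hx : x ∈ Λ.L i) : c • x ∈ Λ.L i := by
  obtain ⟨n, e, he⟩ := Λ.loc i
  rw [he] at hx ⊢
  intro j
  rw [map_smul, Finsupp.smul_apply, smul_eq_mul]
  exact mul_mem hc (hx j)

theorem stab_scale {Λ : Lat S M} {d : S.I → K} {hd : ∀ i, d i ≠ 0} {g : M ≃ₗ[K] M} (hg : Λ.Stab g) :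
    (scale Λ d hd).Stab g := by
  intro i x
  rw [mem_scale, mem_scale, ← map_smul]
  exact hg i _

/-- Common denominators. -/
theorem exists_den (V : ValuationSubring K) {n : ℕ} (y : Fin n → K) : ∃ d : K, d ≠ 0 ∧ d ∈ V ∧ ∀ j, d * y j ∈ V := by
  classical
  let c : Fin n → K := fun j => if y j ∈ V then 1 else (y j)⁻¹
  have hc : ∀ j, c j ≠ 0 ∧ c j ∈ V ∧ c j * y j ∈ V := by
    intro j
    by_cases h : y j ∈ V
    · simp only [c, if_pos h]
      exact ⟨one_ne_zero, one_mem _, by rwa [one_mul]⟩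
    · have h0 : y j ≠ 0 := fun h0 => h (h0 ▸ zero_mem _)
      simp only [c, if_neg h]
      exact ⟨inv_ne_zero h0, (V.mem_or_inv_mem (y j)).resolve_left h, by
        rw [inv_mul_cancel₀ h0]; exact one_mem _⟩
  refine ⟨∏ j, c j, Finset.prod_ne_zero_iff.2 fun j _ => (hc j).1, prod_mem fun j _ => (hc j).2.1, fun j => ?_⟩
  rw [← Finset.mul_prod_erase Finset.univ c (Finset.mem_univ j), mul_right_comm]
  exact mul_mem (hc j).2.2 (prod_mem fun l _ => (hc l).2.1)

theorem exists_smul_mem (Λ : Lat S M) (i : S.I) (x : M) : ∃ d : K, d ≠ 0 ∧ d ∈ S.V i ∧ d • x ∈ Λ.L i := by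
  obtain ⟨n, e, he⟩ := Λ.loc i
  obtain ⟨d, h0, h1, h2⟩ := exists_den (S.V i) fun j => e.repr x j
  refine ⟨d, h0, h1, (he _).2 fun j => ?_⟩
  rw [map_smul, Finsupp.smul_apply, smul_eq_mul]
  exact h2 j

end Scale

section Pow

variable {A : Type u} [CommRing A] [Algebra K A]

/-- Multiplication by a unit. -/
def mulE (u : Aˣ) : A ≃ₗ[K] A where
  toFun x := u * x
  invFun x := ↑u⁻¹ * x
  map_add' x y := mul_add _ _ _
  map_smul' c x := mul_smul_comm c _ x
  left_inv x := Units.inv_mul_cancel_left u x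
  right_inv x := Units.mul_inv_cancel_left u x

theorem mulE_apply (u : Aˣ) (x : A) : mulE (K := K) u x = u * x := rfl

variable (D : DetThy.{u}) (R : S.I → Subring A) (a : S.I → Aˣ) (u : Aˣ)
  (hu : ∀ i, (u : A) ∈ R i ∧ ((u⁻¹ : Aˣ) : A) ∈ R i) (Λ : ℕ → Lat S A)
  (hΛ : ∀ n i x, x ∈ (Λ n).L i ↔ ((a i ^ n)⁻¹ : Aˣ) * x ∈ R i)

include hu hΛ

theorem stab_mulE (n : ℕ) : (Λ n).Stab (mulE u) := by
  intro i x
  rw [hΛ, hΛ, mulE_apply]
  constructor
  · intro h
    have := mul_mem (hu i).2 h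
    rwa [mul_left_comm, Units.inv_mul_cancel_left] at this
  · intro h
    have := mul_mem (hu i).1 h
    rwa [mul_left_comm] at this

/-- One step. -/
theorem chi_step (n : ℕ) : D.χ S (Λ (n + 1)) (mulE u) + D.χ S (Λ 0) (mulE u) =
    D.χ S (Λ n) (mulE u) + D.χ S (Λ 1) (mulE u) := by
  have hst := stab_mulE R a u hu Λ hΛ
  have h0 : ∀ i x, x ∈ (Λ 0).L i ↔ x ∈ R i := fun i x => by
    rw [hΛ, pow_zero, inv_one, Units.val_one, one_mul]
  have hd : ∀ i, ∃ d : K, d ≠ 0 ∧ d ∈ S.V i ∧ d • ((a i)⁻¹ : Aˣ).val ∈ R i := fun i => by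
    obtain ⟨d, h1, h2, h3⟩ := exists_smul_mem (Λ 0) i ((a i)⁻¹ : Aˣ).val
    exact ⟨d, h1, h2, (h0 i _).1 h3⟩
  choose d hd0 hdV hdR using hd
  let I : ℕ → Lat S A := fun m => scale (Λ m) d hd0
  have hI : ∀ m, (I m).Stab (mulE u) := fun m => stab_scale (hst m)
  have key : ∀ m i y, (mulE (K := K) (a i ^ n)) y ∈ (Λ (n + m)).L i ↔ y ∈ (Λ m).L i := by
    intro m i y
    rw [hΛ, hΛ, mulE_apply, ← mul_assoc, ← Units.val_mul, pow_add, mul_inv_rev, inv_mul_cancel_right]
  have keyI : ∀ i y, (mulE (K := K) (a i ^ n)) y ∈ (I n).L i ↔ y ∈ (I 0).L i := by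
    intro i y
    rw [mem_scale, mem_scale, ← map_smul]
    exact key 0 i _
  have hcomm : ∀ i y, (mulE (K := K) (a i ^ n)) (mulE (K := K) u y) = mulE (K := K) u (mulE (K := K) (a i ^ n) y) := by
    intro i y
    rw [mulE_apply, mulE_apply, mulE_apply, mulE_apply, mul_left_comm]
  have e1 := chi_fib D (mulE u) (mulE u) (hst n) (hI n) (hst 0) (hI 0) (fun i => mulE (a i ^ n)) hcomm
    (key 0) keyI (fun i x hx => by
      have := smul_mem (Λ n) (hdV i) (mem_scale.1 hx)
      rwa [smul_inv_smul₀ (hd0 i)] at this)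
  have e2 := chi_fib D (mulE u) (mulE u) (hst (n + 1)) (hI n) (hst 1) (hI 0) (fun i => mulE (a i ^ n)) hcomm
    (key 1) keyI (fun i x hx => by
      have h1 := mem_scale.1 hx
      rw [hΛ] at h1 ⊢
      have h2 := mul_mem (hdR i) h1
      have h3 : ((a i ^ (n + 1))⁻¹ : Aˣ).val * x =
          d i • ((a i)⁻¹ : Aˣ).val * (((a i ^ n)⁻¹ : Aˣ).val * (d i)⁻¹ • x) := by
        rw [mul_smul_comm, smul_mul_smul_comm, mul_inv_cancel₀ (hd0 i), one_smul, ← mul_assoc, ← Units.val_mul,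
          pow_succ, mul_inv_rev]
      rwa [h3])
  have e3 : ∀ {B : Type u} [AddCommGroup B] (x₀ x₁ xn xm i₀ i₁ : B), xn + i₀ = i₁ + x₀ → xm + i₀ = i₁ + x₁ →
      xm + x₀ = xn + x₁ := by
    intro B _ x₀ x₁ xn xm i₀ i₁ h1 h2
    have h3 : xm + x₀ + i₀ = xn + x₁ + i₀ := by
      calc xm + x₀ + i₀ = (xm + i₀) + x₀ := by abel
        _ = i₁ + x₀ + x₁ := by rw [h2]; abel
        _ = xn + x₁ + i₀ := by rw [← h1]; abel
    exact add_right_cancel h3
  exact e3 _ _ _ _ _ _ e1 e2

/-- **The determinant on `a_i ^ n R_i` is affine in `n`.** -/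
theorem chi_pow (n : ℕ) : D.χ S (Λ n) (mulE u) =
    D.χ S (Λ 0) (mulE u) + n • (D.χ S (Λ 1) (mulE u) - D.χ S (Λ 0) (mulE u)) := by
  have e3 : ∀ {B : Type u} [AddCommGroup B] (x : ℕ → B), (∀ n, x (n + 1) + x 0 = x n + x 1) →
      ∀ n : ℕ, x n = x 0 + n • (x 1 - x 0) := by
    intro B _ x h n
    induction n with
    | zero => rw [zero_smul, add_zero]
    | succ n ih =>
      have h1 := h n
      rw [ih] at h1
      have h2 : x (n + 1) = x 0 + n • (x 1 - x 0) + x 1 - x 0 := by rw [← h1, add_sub_cancel_right]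
      rw [h2, succ_nsmul]
      abel
  exact e3 (fun m => D.χ S (Λ m) (mulE u)) (chi_step D R a u hu Λ hΛ) n

/-- If the determinant vanishes on `R_i`, it is linear in `n`. -/
theorem chi_pow_of_zero (h0 : D.χ S (Λ 0) (mulE u) = 0) (n : ℕ) :
    D.χ S (Λ n) (mulE u) = n • D.χ S (Λ 1) (mulE u) := by
  have h := chi_pow D R a u hu Λ hΛ n
  have e3 : ∀ {B : Type u} [AddCommGroup B] (x y z : B), z = 0 → x = z + n • (y - z) → x = n • y := by
    intro B _ x y z h1 h2
    rw [h2, h1, zero_add, sub_zero]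
  exact e3 _ _ _ h0 h

end Pow

end K389.Step
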